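import Groth.Agent.H60.LinB.Select

/-!
Closedness of orbits on stable opens is inherited and local.
-/

set_option autoImplicit false

universe u

open CategoryTheory CategoryTheory.Limits MonoidalCategory CartesianMonoidalCategory MonObj AlgebraicGeometry
  TopologicalSpace Opposite

namespace Groth.Agent.H60.LinB

noncomputable section

variable {S : Scheme.{u}} {G X : Over S} [GrpObj G]

theorem orbit_mem {a : AlgGrp.Action G X} {U : X.left.Opens} (hU : GlueQ.Stable a U) {T : Over S} (f : T ⟶ X)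
    (p : (G ⊗ T).left) (h : (fst X T).left ((GIT.psi a f).left p) ∈ U) :
    f.left ((snd G T).left p) ∈ U := by
  have h1 : a.act.left ((G ◁ f).left p) ∈ U := by
    rw [← Scheme.Hom.comp_apply, ← Over.comp_left] at h ⊢
    rwa [GIT.psi, lift_fst] at h
  have h2 : (G ◁ f).left p ∈ (snd G X).left ⁻¹ᵁ U := hU ▸ h1
  change (snd G X).left ((G ◁ f).left p) ∈ U at h2
  rwa [← Scheme.Hom.comp_apply, ← Over.comp_left, whiskerLeft_snd, Over.comp_left, Scheme.Hom.comp_apply] at h2

variable (a : AlgGrp.Action G X)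

/-- Closed orbits of geometric points, as a local property. -/
def LocProp.closed : LocProp a where
  P := GLinSh.ClosedOrbitsOn a
  sub O O' hle _ h := fun Ω _ _ T i f hf => by
    obtain ⟨C, hC, hCeq⟩ := isClosed_induced_iff.1 (h Ω T i f (hf.trans hle))
    refine isClosed_induced_iff.2 ⟨C, hC, ?_⟩
    ext z
    exact Set.ext_iff.1 hCeq ⟨z.1, hle z.2⟩
  loc O h := fun Ω _ _ T i f hf => by
    rw [← isOpen_compl_iff, isOpen_iff_forall_mem_open]
    intro z hz
    obtain ⟨O', hle, hst, hzO', hP⟩ := h _ z.2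
    haveI : Subsingleton T.left := by
      refine ⟨fun u v => i.hom.homeomorph.injective ?_⟩
      exact Subsingleton.elim (α := PrimeSpectrum Ω) _ _
    by_cases hT : Set.range f.left.base ⊆ (O' : Set X.left)
    · obtain ⟨C, hC, hCeq⟩ := isClosed_induced_iff.1 (hP Ω T i f hT)
      refine ⟨{w | w.1 ∈ (fst X T).left ⁻¹ᵁ O' ∧ w.1 ∉ C}, fun w hw hwE => hw.2 ?_, ?_, hzO', fun hzC => hz ?_⟩
      · exact (Set.ext_iff.1 hCeq ⟨w.1, hw.1⟩).2 hwE
      · exact ((((fst X T).left ⁻¹ᵁ O').isOpen.inter hC.isOpen_compl).preimage continuous_subtype_val)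
      · exact (Set.ext_iff.1 hCeq ⟨z.1, hzO'⟩).1 hzC
    · refine ⟨{w | w.1 ∈ (fst X T).left ⁻¹ᵁ O'}, fun w hw hwE => hT ?_,
        ((fst X T).left ⁻¹ᵁ O').isOpen.preimage continuous_subtype_val, hzO'⟩
      obtain ⟨p, hp⟩ := hwE
      have hw' : (fst X T).left ((GIT.psi a f).left p) ∈ O' := hp ▸ hw
      have h2 := orbit_mem hst f p hw'
      rintro _ ⟨t, rfl⟩
      rwa [Subsingleton.elim t ((snd G T).left p)]

end

end Groth.Agent.H60.LinB
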