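import Groth.Prelude.Def_GLinSh
import Groth.Agent.H60.GlueQ.Restrict

/-!
Line bundles in total-space form: coefficients of weighted functions, and the sections `y = 1`.
-/

set_option autoImplicit false

universe u

open CategoryTheory CategoryTheory.Limits MonoidalCategory CartesianMonoidalCategory MonObj AlgebraicGeometry
  TopologicalSpace Opposite

namespace Groth.Agent.H60.LinB

noncomputable section

/-- Restriction of functions. -/
abbrev rf {W : Scheme.{u}} {U V : W.Opens} (h : V ≤ U) (s : Γ(W, U)) : Γ(W, V) :=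
  W.presheaf.map (homOfLE h).op s

theorem rf_rf {W : Scheme.{u}} {U V V' : W.Opens} (h : V ≤ U) (h' : V' ≤ V) (s : Γ(W, U)) :
    rf h' (rf h s) = rf (h'.trans h) s := by
  simp only [rf, ← CommRingCat.comp_apply, ← Functor.map_comp, ← op_comp, homOfLE_comp]

theorem rf_self {W : Scheme.{u}} {U : W.Opens} (s : Γ(W, U)) : rf le_rfl s = s := by simp [rf]

theorem app_rf {W W' : Scheme.{u}} (f : W' ⟶ W) {U V : W.Opens} (h : V ≤ U) (s : Γ(W, U)) :
    f.app V (rf h s) = rf (f.preimage_mono h) (f.app U s) := by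
  rw [rf, rf, ← CommRingCat.comp_apply, ← CommRingCat.comp_apply, f.naturality]
  rfl

theorem eq_of_cover {W : Scheme.{u}} {U : W.Opens} {s t : Γ(W, U)}
    (h : ∀ x ∈ U, ∃ (V : W.Opens) (hV : V ≤ U), x ∈ V ∧ rf hV s = rf hV t) : s = t := by
  choose V hV hx he using h
  exact TopCat.Sheaf.eq_of_locally_eq' W.sheaf (fun x : U => V x.1 x.2) U (fun x => homOfLE (hV x.1 x.2))
    (fun x hxU => Opens.mem_iSup.2 ⟨⟨x, hxU⟩, hx x hxU⟩) s t fun x => he x.1 x.2

theorem appLE_of_ι {W' : Scheme.{u}} {O : W'.Opens} {U : W'.Opens} (h : O ≤ U) (e : ⊤ ≤ O.ι ⁻¹ᵁ U) (s : Γ(W', U)) :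
    O.ι.appLE U ⊤ e s = O.topIso.inv (rf h s) := by
  rw [rf, ← CommRingCat.comp_apply]
  congr 2
  simp only [Scheme.Hom.appLE, Scheme.Opens.topIso, Functor.mapIso_inv, Scheme.Opens.ι_app]
  erw [← Functor.map_comp, ← Functor.map_comp]
  congr 1

variable {S : Scheme.{u}} {X V : Over S} {π : V ⟶ X}

theorem coord_injective {U : X.left.Opens} {y : Γ(V.left, π.left ⁻¹ᵁ U)}
    (hy : GLinSh.IsFibreCoord π U y) {W : X.left.Opens} (hW : W ≤ U) (n : ℕ) {c c' : Γ(X.left, W)}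
    (h : π.left.app W c * GLinSh.res π hW y ^ n = π.left.app W c' * GLinSh.res π hW y ^ n) : c = c' := by
  refine eq_of_cover fun x hx => ?_
  obtain ⟨W', hW', hxW', hsub⟩ := exists_isAffineOpen_mem_and_subset (U := W) hx
  refine ⟨W', hsub, hxW', ?_⟩
  have h' := congrArg (rf (π.left.preimage_mono (hsub : W' ≤ W))) h
  simp only [rf, map_mul, map_pow] at h'
  have e : ∀ d : Γ(X.left, W), V.left.presheaf.map (homOfLE (π.left.preimage_mono (hsub : W' ≤ W))).op (π.left.app W d) =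
      π.left.app W' (rf hsub d) := fun d => (app_rf _ _ _).symm
  rw [e, e] at h'
  change _ * rf _ (rf _ y) ^ n = _ * rf _ (rf _ y) ^ n at h'
  rw [rf_rf] at h'
  have hb := (hy W' hW' ((hsub : W' ≤ W).trans hW)).1
    (a₁ := Polynomial.monomial n (rf hsub c)) (a₂ := Polynomial.monomial n (rf hsub c'))
    (by simpa using h')
  exact Polynomial.monomial_injective n hb

/-- The section `y = 1` of a line bundle over an affine open. -/
theorem exists_section (hπ : IsAffineHom π.left) {U : X.left.Opens} {y : Γ(V.left, π.left ⁻¹ᵁ U)}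
    (hy : GLinSh.IsFibreCoord π U y) {W : X.left.Opens} (hW : IsAffineOpen W) (hWU : W ≤ U) :
    ∃ s : GlueQ.sub W ⟶ V, s ≫ π = GlueQ.incl W ∧
      ∀ e : ⊤ ≤ s.left ⁻¹ᵁ (π.left ⁻¹ᵁ U), s.left.appLE (π.left ⁻¹ᵁ U) ⊤ e y = 1 := by
  haveI := hπ
  have hV : IsAffineOpen (π.left ⁻¹ᵁ W) := hW.preimage π.left
  let ε := RingEquiv.ofBijective _ (hy W hW hWU)
  let φ : Γ(V.left, π.left ⁻¹ᵁ W) ⟶ Γ(X.left, W) :=
    CommRingCat.ofHom ((Polynomial.evalRingHom 1).comp ε.symm.toRingHom)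
  have hφc : π.left.app W ≫ φ = 𝟙 _ := by
    refine CommRingCat.hom_ext (RingHom.ext fun c => ?_)
    show Polynomial.evalRingHom 1 (ε.symm (π.left.app W c)) = c
    rw [show π.left.app W c = ε (Polynomial.C c) from (Polynomial.eval₂_C _ _).symm, ε.symm_apply_apply]
    exact Polynomial.eval_C
  have hφy : φ (GLinSh.res π hWU y) = 1 := by
    show Polynomial.evalRingHom 1 (ε.symm (GLinSh.res π hWU y)) = 1
    rw [show GLinSh.res π hWU y = ε Polynomial.X from (Polynomial.eval₂_X _ _).symm, ε.symm_apply_apply]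
    exact Polynomial.eval_X
  let s₀ : W.toScheme ⟶ V.left := (hW.isoSpec.hom ≫ Spec.map φ) ≫ hV.fromSpec
  have hs₀ : s₀ ≫ π.left = W.ι := by
    have h := hW.SpecMap_appLE_fromSpec π.left hV le_rfl
    rw [Scheme.Hom.appLE_eq_app] at h
    rw [Category.assoc, ← h, Category.assoc, ← Spec.map_comp_assoc, hφc, Spec.map_id, Category.id_comp,
      IsAffineOpen.isoSpec_hom_fromSpec]
  refine ⟨Over.homMk s₀ (by
    show s₀ ≫ V.hom = W.ι ≫ X.hom
    rw [← Over.w π, reassoc_of% hs₀]), Over.OverMorphism.ext hs₀, fun e => ?_⟩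
  show s₀.appLE (π.left ⁻¹ᵁ U) ⊤ _ y = 1
  have e1 : ⊤ ≤ hV.fromSpec ⁻¹ᵁ (π.left ⁻¹ᵁ W) := hV.fromSpec_preimage_self.ge
  rw [← Scheme.Hom.appLE_comp_appLE (hW.isoSpec.hom ≫ Spec.map φ) hV.fromSpec (π.left ⁻¹ᵁ U) ⊤ ⊤
    (e1.trans (hV.fromSpec.preimage_mono (π.left.preimage_mono hWU))) le_top,
    CommRingCat.comp_apply,
    ← hV.fromSpec.map_appLE (U := π.left ⁻¹ᵁ W) e1 (homOfLE (π.left.preimage_mono hWU)).op,
    CommRingCat.comp_apply]
  have e2 : hV.fromSpec.appLE (π.left ⁻¹ᵁ W) ⊤ e1 = (Scheme.ΓSpecIso Γ(V.left, π.left ⁻¹ᵁ W)).inv := by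
    rw [Scheme.Hom.appLE, hV.fromSpec_app_self, Category.assoc, ← Functor.map_comp]
    simp
  have e3 : (hW.isoSpec.hom ≫ Spec.map φ).appLE ⊤ ⊤ le_top =
      (Spec.map φ).appTop ≫ hW.isoSpec.hom.appTop := by
    rw [Scheme.Hom.appLE]
    erw [CategoryTheory.Functor.map_id, Category.comp_id]
  rw [e2, e3, CommRingCat.comp_apply, ← CommRingCat.comp_apply (Scheme.ΓSpecIso _).inv,
    ← Scheme.ΓSpecIso_inv_naturality φ, CommRingCat.comp_apply]
  change hW.isoSpec.hom.appTop ((Scheme.ΓSpecIso _).inv (φ (GLinSh.res π hWU y))) = 1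
  rw [hφy, map_one, map_one]

end

end Groth.Agent.H60.LinB
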