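import Groth.Agent.H60.LinB.Sections
import Mathlib.AlgebraicGeometry.Morphisms.Affine
import Mathlib.Order.Preorder.Finite

/-!
An invariant section with affine locus through finitely many given semi-stable points.
-/

set_option autoImplicit false

universe u

open CategoryTheory CategoryTheory.Limits MonoidalCategory CartesianMonoidalCategory MonObj AlgebraicGeometry
  TopologicalSpace Opposite

namespace Groth.Agent.H60.LinB

noncomputable section

variable {S : Scheme.{u}} {G X : Over S} [GrpObj G] {a : AlgGrp.Action G X} (B : GLinSh.LinBun G a)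

theorem stable_inf {U V : X.left.Opens} (hU : GlueQ.Stable a U) (hV : GlueQ.Stable a V) :
    GlueQ.Stable a (U ⊓ V) := by
  rw [GlueQ.Stable, Scheme.Hom.preimage_inf, Scheme.Hom.preimage_inf, hU, hV]

/-- A property of stable opens inherited by stable sub-opens and local for stable covers. -/
structure LocProp (a : AlgGrp.Action G X) where
  P : X.left.Opens → Prop
  sub : ∀ O O' : X.left.Opens, O' ≤ O → GlueQ.Stable a O' → P O → P O'
  loc : ∀ O : X.left.Opens, (∀ x ∈ O, ∃ O' ≤ O, GlueQ.Stable a O' ∧ x ∈ O' ∧ P O') → P O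

/-- The empty property. -/
def LocProp.triv (a : AlgGrp.Action G X) : LocProp a :=
  ⟨fun _ => True, fun _ _ _ _ _ => trivial, fun _ _ => trivial⟩

variable (Q : LocProp a)

/-- An invariant section of positive weight with affine locus having the property. -/
def Good (n : ℕ) (f : Γ(B.V.left, ⊤)) : Prop :=
  1 ≤ n ∧ ∃ h : B.IsInvSection n f, IsAffineOpen (Xf B h.1) ∧ Q.P (Xf B h.1)

variable {B Q}

theorem Good.inv {n : ℕ} {f : Γ(B.V.left, ⊤)} (h : Good B Q n f) : B.IsInvSection n f := h.2.1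

theorem Good.mul {n m : ℕ} {f g : Γ(B.V.left, ⊤)} (hf : Good B Q n f) (hg : B.IsInvSection m g) :
    Good B Q (n + m) (f * g) := by
  obtain ⟨hn, hf', haff, hQ⟩ := hf
  have hfg := isInvSection_mul B hf' hg
  refine ⟨by omega, hfg, ?_, Q.sub _ _ ?_ (stable_Xf B hfg) hQ⟩
  · obtain ⟨n', rfl⟩ : ∃ n', n = n' + 1 := ⟨n - 1, by omega⟩
    have h1 := isInvSection_pow B hfg (n' + 1)
    have h2 : B.IsInvSection ((n' + 1) * (n' + 1 + m)) (f ^ (n' + m + 1)) := by
      have h := isInvSection_pow B hf' (n' + m + 1)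
      rwa [show (n' + m + 1) * (n' + 1) = (n' + 1) * (n' + 1 + m) by ring] at h
    have he2 : Xf B h2.1 = Xf B hf'.1 := SetLike.coe_injective (nonvanishing_pow B hf' _)
    have he1 : Xf B h1.1 = Xf B hfg.1 := SetLike.coe_injective (nonvanishing_pow B hfg _)
    have hb := basicOpen_ratio B h1.1 h2.1 le_rfl (isRatio_ratio B h1.1 h2.1)
    have hle : Xf B hfg.1 ≤ Xf B hf'.1 := fun x hx => ((mem_nonvanishing_mul B hf'.1 hg.1 x).1 hx).1
    replace hb := hb.trans ((congrArg₂ (· ⊓ ·) he2 he1).trans (inf_eq_right.2 hle))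
    exact Eq.subst (motive := fun O : X.left.Opens => IsAffineOpen O) hb
      (IsAffineOpen.basicOpen (he2.symm ▸ haff) _)
  · exact fun x hx => ((mem_nonvanishing_mul B hf'.1 hg.1 x).1 hx).1

theorem Good.pow {n : ℕ} {f : Γ(B.V.left, ⊤)} (hf : Good B Q n f) {m : ℕ} (hm : 0 < m) :
    Good B Q (m * n) (f ^ m) := by
  obtain ⟨hn, hf', haff, hQ⟩ := hf
  obtain ⟨m, rfl⟩ : ∃ j, m = j + 1 := ⟨m - 1, by omega⟩
  have h := isInvSection_pow B hf' (m + 1)
  have he : Xf B h.1 = Xf B hf'.1 := SetLike.coe_injective (nonvanishing_pow B hf' _)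
  exact ⟨Nat.mul_pos (Nat.succ_pos m) hn, h, he ▸ haff, he ▸ hQ⟩

variable (B) in
theorem mem_nonvanishing_sum {n : ℕ} {J : Type*} (s : Finset J) {f : J → Γ(B.V.left, ⊤)}
    (hf : ∀ j, GLinSh.HasWeight B.atlas.chart n (f j)) {x : X.left} {i : J} (hi : i ∈ s)
    (hx : x ∈ GLinSh.nonvanishing B.π (f i)) (hvan : ∀ j ∈ s, j ≠ i → x ∉ GLinSh.nonvanishing B.π (f j)) :
    x ∈ GLinSh.nonvanishing B.π (∑ j ∈ s, f j) := by
  classical
  obtain ⟨U, y, W, hy, -, hW, -, hxW⟩ := exists_chart B x (O := ⊤) trivial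
  choose c hc using fun j => exists_coef B (hf j) hy hW
  have key : ∀ {h : Γ(B.V.left, ⊤)} {e : Γ(X.left, W)},
      GLinSh.resTop B.π W h = B.π.left.app W e * GLinSh.res B.π hW y ^ n →
      (x ∈ GLinSh.nonvanishing B.π h ↔ IsUnit (X.left.presheaf.germ W x hxW e)) := fun {h e} he => by
    rw [← Scheme.mem_basicOpen X.left e x hxW, ← SetLike.mem_coe, ← nonvanishing_inter B hy hW he]
    exact ⟨fun h => ⟨h, hxW⟩, fun h => h.1⟩
  have hsum : GLinSh.resTop B.π W (∑ j ∈ s, f j) =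
      B.π.left.app W (∑ j ∈ s, c j) * GLinSh.res B.π hW y ^ n := by
    simp only [GLinSh.resTop, map_sum, Finset.sum_mul]
    exact Finset.sum_congr rfl fun j _ => hc j
  rw [key hsum, ← Finset.add_sum_erase s c hi, map_add]
  have hrest : (X.left.presheaf.germ W x hxW).hom (∑ j ∈ s.erase i, c j) ∈
      IsLocalRing.maximalIdeal (X.left.presheaf.stalk x) := by
    rw [map_sum]
    refine Submodule.sum_mem _ fun j hj => ?_
    obtain ⟨hne, hjs⟩ := Finset.mem_erase.1 hj
    rw [IsLocalRing.mem_maximalIdeal]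
    exact fun hu => hvan j hjs hne ((key (hc j)).2 hu)
  by_contra hcon
  have h1 : (X.left.presheaf.germ W x hxW).hom (c i) +
      (X.left.presheaf.germ W x hxW).hom (∑ j ∈ s.erase i, c j) ∈
      IsLocalRing.maximalIdeal (X.left.presheaf.stalk x) :=
    (IsLocalRing.mem_maximalIdeal _).2 hcon
  have h2 := Ideal.sub_mem _ h1 hrest
  rw [add_sub_cancel_right, IsLocalRing.mem_maximalIdeal] at h2
  exact h2 ((key (hc i)).1 hx)

theorem exists_good_of_points (s : Finset X.left)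
    (hs : ∀ x ∈ s, ∃ n f, Good B Q n f ∧ x ∈ GLinSh.nonvanishing B.π f) :
    ∃ n f, Good B Q n f ∧ ∀ x ∈ s, x ∈ GLinSh.nonvanishing B.π f := by
  classical
  let F : X.left → Set (ℕ × Γ(B.V.left, ⊤)) :=
    fun x => {p | Good B Q p.1 p.2 ∧ x ∈ GLinSh.nonvanishing B.π p.2}
  let M := (s.image F).filter fun P => Minimal (· ∈ s.image F) P
  have hsep : ∀ P ∈ M, ∀ T ⊆ M, ∃ p, p ∈ P ∧ ∀ R ∈ T, R ≠ P → p ∉ R := by
    intro P hP T hT
    obtain ⟨⟨xP, hxP, rfl⟩, hPmin⟩ : (∃ x ∈ s, F x = P) ∧ Minimal (· ∈ s.image F) P := by simpa [M] using hP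
    induction T using Finset.induction with
    | empty =>
      obtain ⟨n, f, hf⟩ := hs xP hxP
      exact ⟨(n, f), hf, by simp⟩
    | insert R T hR ih =>
      obtain ⟨hRM, hTM⟩ := Finset.insert_subset_iff.1 hT
      obtain ⟨⟨n, f⟩, hp, hpT⟩ := ih hTM
      obtain ⟨⟨xR, hxR, rfl⟩, hRmin⟩ : (∃ x ∈ s, F x = R) ∧ Minimal (· ∈ s.image F) R := by simpa [M] using hRM
      by_cases he : F xR = F xP
      · refine ⟨(n, f), hp, fun R' hR' hne => ?_⟩
        rcases Finset.mem_insert.1 hR' with rfl | h'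
        · exact absurd he hne
        · exact hpT R' h' hne
      obtain ⟨⟨m, g⟩, hgP, hgR⟩ : ∃ q, q ∈ F xP ∧ q ∉ F xR := by
        by_contra hcon
        push Not at hcon
        exact he (hRmin.eq_of_le (Finset.mem_image_of_mem F hxP) hcon).symm
      refine ⟨(n + m, f * g), ⟨hp.1.mul hgP.1.inv, ?_⟩, fun R' hR' hne hmem => ?_⟩
      · exact (mem_nonvanishing_mul B hp.1.inv.1 hgP.1.inv.1 xP).2 ⟨hp.2, hgP.2⟩
      · rcases Finset.mem_insert.1 hR' with rfl | h'
        · exact hgR ⟨hgP.1, ((mem_nonvanishing_mul B hp.1.inv.1 hgP.1.inv.1 _).1 hmem.2).2⟩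
        · obtain ⟨⟨x', -, rfl⟩, -⟩ : (∃ x ∈ s, F x = R') ∧ Minimal (· ∈ s.image F) R' := by
            simpa [M] using hTM h'
          exact hpT _ h' hne ⟨hp.1, ((mem_nonvanishing_mul B hp.1.inv.1 hgP.1.inv.1 _).1 hmem.2).1⟩
  choose p hpP hpR using fun P : M => hsep P.1 P.2 M subset_rfl
  have hMF : ∀ P : M, ∃ x ∈ s, F x = P.1 := fun P => by
    obtain ⟨h, -⟩ : (∃ x ∈ s, F x = P.1) ∧ Minimal (· ∈ s.image F) P.1 := by simpa [M] using P.2
    exact h
  choose xr hxs hxr using hMF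
  have hmemF : ∀ P : M, p P ∈ F (xr P) := fun P => (hxr P).symm ▸ hpP P
  have hn : ∀ P : M, 1 ≤ (p P).1 := fun P => (hmemF P).1.1
  let N : ℕ := ∏ P : M, (p P).1
  have hN : 1 ≤ N := Finset.one_le_prod' fun P _ => hn P
  let e : M → ℕ := fun P => N / (p P).1
  have hdiv : ∀ P : M, (p P).1 ∣ N := fun P => Finset.dvd_prod_of_mem _ (Finset.mem_univ P)
  have he : ∀ P : M, e P * (p P).1 = N := fun P => Nat.div_mul_cancel (hdiv P)
  have hepos : ∀ P : M, 0 < e P := fun P => Nat.pos_of_ne_zero fun h => by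
    have h2 := he P
    rw [h, Nat.zero_mul] at h2
    omega
  let g : M → Γ(B.V.left, ⊤) := fun P => (p P).2 ^ e P
  have hg : ∀ P : M, Good B Q N (g P) := fun P => he P ▸ (hmemF P).1.pow (hepos P)
  have hgnv : ∀ P : M, GLinSh.nonvanishing B.π (g P) = GLinSh.nonvanishing B.π (p P).2 := fun P => by
    obtain ⟨j, hj⟩ : ∃ j, e P = j + 1 := ⟨e P - 1, by have := hepos P; omega⟩
    rw [show g P = (p P).2 ^ (j + 1) from hj ▸ rfl, nonvanishing_pow B (hmemF P).1.inv j]
  let h := ∑ P, g P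
  have hinv : B.IsInvSection N h := isInvSection_sum B _ _ fun P _ => (hg P).inv
  have hpiece : ∀ x ∈ Xf B hinv.1, ∃ P : M, x ∈ Xf B (hg P).inv.1 := fun x hx => by
    by_contra hcon
    push Not at hcon
    obtain ⟨U, y, W, hy, -, hW, -, hxW⟩ := exists_chart B x (O := ⊤) trivial
    choose c hc using fun P => exists_coef B (hg P).inv.1 hy hW
    have hsum : GLinSh.resTop B.π W h = B.π.left.app W (∑ P, c P) * GLinSh.res B.π hW y ^ N := by
      simp only [h, GLinSh.resTop, map_sum, Finset.sum_mul]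
      exact Finset.sum_congr rfl fun j _ => hc j
    have hu : x ∈ X.left.basicOpen (∑ P, c P) := by
      rw [← Xf_inf B hinv.1 hy hW hsum]
      exact ⟨hx, hxW⟩
    rw [Scheme.mem_basicOpen _ _ _ hxW, map_sum] at hu
    refine (IsLocalRing.mem_maximalIdeal _).1 (Submodule.sum_mem _ fun P _ => ?_) hu
    rw [IsLocalRing.mem_maximalIdeal]
    intro hP
    refine hcon P ?_
    have : x ∈ Xf B (hg P).inv.1 ⊓ W := by
      rw [Xf_inf B (hg P).inv.1 hy hW (hc P), Scheme.mem_basicOpen _ _ _ hxW]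
      exact hP
    exact this.1
  have hgood : Good B Q N h := by
    refine ⟨hN, hinv, ?_, Q.loc _ fun x hx => ?_⟩
    · let r : M → Γ(X.left, Xf B hinv.1) := fun P => ratio B (hg P).inv.1 hinv.1
      have hone : ∑ P, r P = 1 := by
        refine ratio_unique B hinv.1 le_rfl (f := h) ?_ (isRatio_self B h _)
        rw [IsRatio, map_sum, Finset.sum_mul]
        refine Eq.trans ?_ (Finset.sum_congr rfl fun P _ => isRatio_ratio B (hg P).inv.1 hinv.1)
        simp only [h, GLinSh.resTop, map_sum]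
      refine isAffineOpen_of_isAffineOpen_basicOpen _ (Set.range r) ?_ ?_
      · rw [Ideal.eq_top_iff_one, ← hone]
        exact Submodule.sum_mem _ fun P _ => Ideal.subset_span ⟨P, rfl⟩
      · rintro _ ⟨P, rfl⟩
        rw [basicOpen_ratio B (hg P).inv.1 hinv.1 le_rfl (isRatio_ratio B (hg P).inv.1 hinv.1), inf_comm,
          ← basicOpen_ratio B hinv.1 (hg P).inv.1 le_rfl (isRatio_ratio B hinv.1 (hg P).inv.1)]
        exact (hg P).2.2.1.basicOpen _
    · obtain ⟨P, hP⟩ := hpiece x hx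
      exact ⟨_, inf_le_left, stable_inf (stable_Xf B hinv) (stable_Xf B (hg P).inv), ⟨hx, hP⟩,
        Q.sub _ _ inf_le_right (stable_inf (stable_Xf B hinv) (stable_Xf B (hg P).inv)) (hg P).2.2.2⟩
  refine ⟨N, h, hgood, fun x hx => ?_⟩
  obtain ⟨R, hRx, hR⟩ := Finset.exists_le_minimal (s.image F) (Finset.mem_image_of_mem F hx)
  let R' : M := ⟨R, Finset.mem_filter.2 ⟨hR.1, hR⟩⟩
  have h1 : xr R' ∈ GLinSh.nonvanishing B.π h := by
    refine mem_nonvanishing_sum B Finset.univ (fun P => (hg P).inv.1) (Finset.mem_univ R')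
      (by rw [hgnv]; exact (hmemF R').2) fun P _ hP hmem => ?_
    rw [hgnv] at hmem
    refine hpR P R R'.2 (fun heq => hP (Subtype.ext heq.symm)) ?_
    show p P ∈ R'.1
    rw [← hxr R']
    exact ⟨(hmemF P).1, hmem⟩
  have h2 : ((N, h) : ℕ × Γ(B.V.left, ⊤)) ∈ F (xr R') := ⟨hgood, h1⟩
  rw [hxr R'] at h2
  exact (hRx h2).2

end

end Groth.Agent.H60.LinB
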