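import Groth.Agent.H60.LinB.Closed
import Groth.Agent.H60.LinB.Select

/-!
Semi-stable and stable points as points with good sections.
-/

set_option autoImplicit false

universe u

open CategoryTheory CategoryTheory.Limits MonoidalCategory CartesianMonoidalCategory MonObj AlgebraicGeometry
  TopologicalSpace Opposite

namespace Groth.Agent.H60.LinB

noncomputable section

variable {S : Scheme.{u}} {G X : Over S} [GrpObj G] {a : AlgGrp.Action G X} (B : GLinSh.LinBun G a)

theorem isSemistablePt_iff (x : X.left) :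
    B.IsSemistablePt x ↔ ∃ n f, Good B (LocProp.triv a) n f ∧ x ∈ GLinSh.nonvanishing B.π f := by
  constructor
  · rintro ⟨n, f, hn, hf, hx, U, hU, haff⟩
    obtain rfl : U = Xf B hf.1 := SetLike.coe_injective hU
    exact ⟨n, f, ⟨hn, hf, haff, trivial⟩, hx⟩
  · rintro ⟨n, f, ⟨hn, hf, haff, -⟩, hx⟩
    exact ⟨n, f, hn, hf, hx, Xf B hf.1, rfl, haff⟩

theorem isStablePt_iff (x : X.left) :
    B.IsStablePt x ↔ ∃ n f, Good B (LocProp.closed a) n f ∧ x ∈ GLinSh.nonvanishing B.π f := by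
  constructor
  · rintro ⟨n, f, hn, hf, hx, U, hU, haff, hc⟩
    obtain rfl : U = Xf B hf.1 := SetLike.coe_injective hU
    exact ⟨n, f, ⟨hn, hf, haff, hc⟩, hx⟩
  · rintro ⟨n, f, ⟨hn, hf, haff, hc⟩, hx⟩
    exact ⟨n, f, hn, hf, hx, Xf B hf.1, rfl, haff, hc⟩

theorem Good.toTriv {B : GLinSh.LinBun G a} {Q : LocProp a} {n : ℕ} {f : Γ(B.V.left, ⊤)} (h : Good B Q n f) :
    Good B (LocProp.triv a) n f :=
  ⟨h.1, h.2.1, h.2.2.1, trivial⟩

end

end Groth.Agent.H60.LinB
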