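import Groth.Agent.H60.LinB.Coef
import Groth.Agent.H60.GlueQ.Datum
import Groth.Agent.Lib.GrpSch.Basic

/-!
Weighted functions on a line bundle: non-vanishing loci, ratios, invariance.
-/

set_option autoImplicit false

universe u

open CategoryTheory CategoryTheory.Limits MonoidalCategory CartesianMonoidalCategory MonObj AlgebraicGeometry
  TopologicalSpace Opposite

namespace Groth.Agent.H60.LinB

noncomputable section

variable {S : Scheme.{u}} {G X : Over S} [GrpObj G] {a : AlgGrp.Action G X} (B : GLinSh.LinBun G a)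

theorem res_top_res {U W : X.left.Opens} (h : W ≤ U) (f : Γ(B.V.left, ⊤)) :
    rf (B.π.left.preimage_mono h) (GLinSh.resTop B.π U f) = GLinSh.resTop B.π W f := rf_rf _ _ _

theorem exists_coef {n : ℕ} {f : Γ(B.V.left, ⊤)} (hf : GLinSh.HasWeight B.atlas.chart n f) {U : X.left.Opens}
    {y : Γ(B.V.left, B.π.left ⁻¹ᵁ U)} (hy : y ∈ B.atlas.chart U) {W : X.left.Opens} (hW : W ≤ U) :
    ∃ c : Γ(X.left, W), GLinSh.resTop B.π W f = B.π.left.app W c * GLinSh.res B.π hW y ^ n := by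
  obtain ⟨c, hc⟩ := hf U y hy
  refine ⟨rf hW c, ?_⟩
  rw [← res_top_res B hW, hc, app_rf]
  simp only [rf, map_mul, map_pow]

theorem exists_chart (x : X.left) {O : X.left.Opens} (hx : x ∈ O) :
    ∃ (U : X.left.Opens) (y : Γ(B.V.left, B.π.left ⁻¹ᵁ U)) (W : X.left.Opens),
      y ∈ B.atlas.chart U ∧ IsAffineOpen W ∧ W ≤ U ∧ W ≤ O ∧ x ∈ W := by
  obtain ⟨U, hxU, y, hy⟩ := B.atlas.cover x
  obtain ⟨W, hW, hxW, hsub⟩ := exists_isAffineOpen_mem_and_subset (U := U ⊓ O) ⟨hxU, hx⟩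
  exact ⟨U, y, W, hy, hW, fun z hz => (hsub hz).1, fun z hz => (hsub hz).2, hxW⟩

theorem nonvanishing_inter {U : X.left.Opens} {y : Γ(B.V.left, B.π.left ⁻¹ᵁ U)} (hy : y ∈ B.atlas.chart U)
    {W : X.left.Opens} (hW : W ≤ U) {n : ℕ} {f : Γ(B.V.left, ⊤)} {c : Γ(X.left, W)}
    (h : GLinSh.resTop B.π W f = B.π.left.app W c * GLinSh.res B.π hW y ^ n) :
    GLinSh.nonvanishing B.π f ∩ W = X.left.basicOpen c := by
  ext x
  constructor
  · rintro ⟨⟨v, hv, rfl⟩, hx⟩
    have h1 : v ∈ B.V.left.basicOpen (GLinSh.resTop B.π W f) := by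
      rw [GLinSh.resTop, Scheme.basicOpen_res]
      exact ⟨hx, hv⟩
    rw [h, Scheme.basicOpen_mul, ← Scheme.preimage_basicOpen] at h1
    exact h1.1
  · intro hx
    have hxW : x ∈ W := X.left.basicOpen_le c hx
    obtain ⟨W', hW', hxW', hsub⟩ := exists_isAffineOpen_mem_and_subset (U := X.left.basicOpen c) hx
    have hle : W' ≤ W := fun z hz => X.left.basicOpen_le c (hsub hz)
    obtain ⟨s, hs, hy1⟩ := exists_section B.atlas.affine (B.atlas.coord U y hy) hW' (hle.trans hW)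
    have hsπ : ∀ z, B.π.left (s.left z) = W'.ι z := fun z =>
      congrArg (fun m : GlueQ.sub W' ⟶ X => m.left z) hs
    have e : ⊤ ≤ s.left ⁻¹ᵁ (B.π.left ⁻¹ᵁ W) := fun z _ => by
      show B.π.left (s.left z) ∈ W
      rw [hsπ]
      exact hle z.2
    have eU : ⊤ ≤ s.left ⁻¹ᵁ (B.π.left ⁻¹ᵁ U) := fun z hz => hW (e hz)
    have hval : s.left.appLE (B.π.left ⁻¹ᵁ W) ⊤ e (GLinSh.resTop B.π W f) = W'.topIso.inv (rf hle c) := by
      rw [h, map_mul, map_pow, GLinSh.res, ← CommRingCat.comp_apply, ← CommRingCat.comp_apply (B.V.left.presheaf.map _),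
        Scheme.Hom.map_appLE, hy1 eU, one_pow, _root_.mul_one, Scheme.Hom.app_eq_appLE,
        Scheme.Hom.appLE_comp_appLE]
      exact (congrArg (fun m => m.hom c)
        (AffQuot.appLE_congr (congrArg CommaMorphism.left hs : s.left ≫ B.π.left = W'.ι) W ⊤ _
          (fun z _ => hle z.2))).trans (appLE_of_ι hle _ _)
    refine ⟨⟨s.left ⟨x, hxW'⟩, ?_, hsπ _⟩, hxW⟩
    have hbo : (⟨x, hxW'⟩ : W'.toScheme) ∈ W'.toScheme.basicOpen (W'.topIso.inv (rf hle c)) := by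
      have : (W'.topIso.inv (rf hle c)) = W'.ι.appLE W ⊤ (fun z _ => hle z.2) c := (appLE_of_ι hle _ _).symm
      rw [this, Scheme.basicOpen_appLE]
      exact ⟨trivial, hsub hxW'⟩
    rw [← hval, Scheme.basicOpen_appLE] at hbo
    have h2 := hbo.2
    change s.left ⟨x, hxW'⟩ ∈ B.V.left.basicOpen (GLinSh.resTop B.π W f) at h2
    rw [GLinSh.resTop, Scheme.basicOpen_res] at h2
    exact h2.2

theorem isOpen_nonvanishing {n : ℕ} {f : Γ(B.V.left, ⊤)} (hf : GLinSh.HasWeight B.atlas.chart n f) :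
    IsOpen (GLinSh.nonvanishing B.π f) := by
  refine isOpen_iff_forall_mem_open.2 fun x hx => ?_
  obtain ⟨U, y, W, hy, -, hW, -, hxW⟩ := exists_chart B x (O := ⊤) trivial
  obtain ⟨c, hc⟩ := exists_coef B hf hy hW
  refine ⟨GLinSh.nonvanishing B.π f ∩ W, Set.inter_subset_left, ?_, hx, hxW⟩
  rw [nonvanishing_inter B hy hW hc]
  exact (X.left.basicOpen c).isOpen

/-- The open `X_f`. -/
def Xf {n : ℕ} {f : Γ(B.V.left, ⊤)} (hf : GLinSh.HasWeight B.atlas.chart n f) : X.left.Opens :=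
  ⟨GLinSh.nonvanishing B.π f, isOpen_nonvanishing B hf⟩

theorem Xf_inf {n : ℕ} {f : Γ(B.V.left, ⊤)} (hf : GLinSh.HasWeight B.atlas.chart n f) {U : X.left.Opens}
    {y : Γ(B.V.left, B.π.left ⁻¹ᵁ U)} (hy : y ∈ B.atlas.chart U) {W : X.left.Opens} (hW : W ≤ U)
    {c : Γ(X.left, W)} (h : GLinSh.resTop B.π W f = B.π.left.app W c * GLinSh.res B.π hW y ^ n) :
    Xf B hf ⊓ W = X.left.basicOpen c :=
  SetLike.coe_injective (nonvanishing_inter B hy hW h)

theorem hasWeight_mul {n m : ℕ} {f g : Γ(B.V.left, ⊤)} (hf : GLinSh.HasWeight B.atlas.chart n f)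
    (hg : GLinSh.HasWeight B.atlas.chart m g) : GLinSh.HasWeight B.atlas.chart (n + m) (f * g) := fun U y hy => by
  obtain ⟨c, hc⟩ := hf U y hy
  obtain ⟨d, hd⟩ := hg U y hy
  refine ⟨c * d, ?_⟩
  simp only [GLinSh.resTop, map_mul] at hc hd ⊢
  rw [hc, hd, pow_add, _root_.mul_mul_mul_comm]

theorem hasWeight_add {n : ℕ} {f g : Γ(B.V.left, ⊤)} (hf : GLinSh.HasWeight B.atlas.chart n f)
    (hg : GLinSh.HasWeight B.atlas.chart n g) : GLinSh.HasWeight B.atlas.chart n (f + g) := fun U y hy => by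
  obtain ⟨c, hc⟩ := hf U y hy
  obtain ⟨d, hd⟩ := hg U y hy
  refine ⟨c + d, ?_⟩
  simp only [GLinSh.resTop, map_add] at hc hd ⊢
  rw [hc, hd, _root_.add_mul]

theorem hasWeight_zero (n : ℕ) : GLinSh.HasWeight B.atlas.chart n (0 : Γ(B.V.left, ⊤)) := fun U y _ =>
  ⟨0, by simp [GLinSh.resTop]⟩

theorem isInvSection_mul {n m : ℕ} {f g : Γ(B.V.left, ⊤)} (hf : B.IsInvSection n f) (hg : B.IsInvSection m g) :
    B.IsInvSection (n + m) (f * g) :=
  ⟨hasWeight_mul B hf.1 hg.1, by rw [GLinSh.IsInvFn, map_mul, map_mul, hf.2, hg.2]⟩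

theorem isInvSection_one : B.IsInvSection 0 1 :=
  ⟨fun U y _ => ⟨1, by simp [GLinSh.resTop]⟩, by simp [GLinSh.IsInvFn]⟩

theorem isInvSection_pow {n : ℕ} {f : Γ(B.V.left, ⊤)} (hf : B.IsInvSection n f) :
    ∀ m : ℕ, B.IsInvSection (m * n) (f ^ m)
  | 0 => by simpa using isInvSection_one B
  | m + 1 => by
    rw [pow_succ, add_one_mul]
    exact isInvSection_mul B (isInvSection_pow hf m) hf

theorem isInvSection_sum {n : ℕ} {J : Type*} (s : Finset J) (f : J → Γ(B.V.left, ⊤))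
    (hf : ∀ j ∈ s, B.IsInvSection n (f j)) : B.IsInvSection n (∑ j ∈ s, f j) := by
  classical
  induction s using Finset.induction with
  | empty => exact ⟨by simpa using hasWeight_zero B n, by simp [GLinSh.IsInvFn]⟩
  | insert j s hj ih =>
    rw [Finset.sum_insert hj]
    have h1 := hf j (Finset.mem_insert_self j s)
    have h2 := ih fun i hi => hf i (Finset.mem_insert_of_mem hi)
    exact ⟨hasWeight_add B h1.1 h2.1, by rw [GLinSh.IsInvFn, map_add, map_add, h1.2, h2.2]⟩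

theorem mem_nonvanishing_mul {n m : ℕ} {f g : Γ(B.V.left, ⊤)} (hf : GLinSh.HasWeight B.atlas.chart n f)
    (hg : GLinSh.HasWeight B.atlas.chart m g) (x : X.left) :
    x ∈ GLinSh.nonvanishing B.π (f * g) ↔ x ∈ GLinSh.nonvanishing B.π f ∧ x ∈ GLinSh.nonvanishing B.π g := by
  obtain ⟨U, y, W, hy, -, hW, -, hxW⟩ := exists_chart B x (O := ⊤) trivial
  obtain ⟨c, hc⟩ := exists_coef B hf hy hW
  obtain ⟨d, hd⟩ := exists_coef B hg hy hW
  have hcd : GLinSh.resTop B.π W (f * g) = B.π.left.app W (c * d) * GLinSh.res B.π hW y ^ (n + m) := by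
    simp only [GLinSh.resTop, map_mul] at hc hd ⊢
    rw [hc, hd, pow_add, _root_.mul_mul_mul_comm]
  have key : ∀ {l : ℕ} {h : Γ(B.V.left, ⊤)} {e : Γ(X.left, W)},
      GLinSh.resTop B.π W h = B.π.left.app W e * GLinSh.res B.π hW y ^ l →
      (x ∈ GLinSh.nonvanishing B.π h ↔ x ∈ X.left.basicOpen e) := fun {l h e} he => by
    rw [← SetLike.mem_coe, ← nonvanishing_inter B hy hW he]
    exact ⟨fun h => ⟨h, hxW⟩, fun h => h.1⟩
  rw [key hc, key hd, key hcd, Scheme.basicOpen_mul]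
  exact Iff.rfl

theorem nonvanishing_pow {n : ℕ} {f : Γ(B.V.left, ⊤)} (hf : B.IsInvSection n f) (m : ℕ) :
    GLinSh.nonvanishing B.π (f ^ (m + 1)) = GLinSh.nonvanishing B.π f := by
  induction m with
  | zero => rw [zero_add, pow_one]
  | succ m ih =>
    ext x
    rw [pow_succ, mem_nonvanishing_mul B (isInvSection_pow B hf (m + 1)).1 hf.1, ih, and_self]

/-- `r` is the ratio of `f` and `g` over `O`. -/
def IsRatio (f g : Γ(B.V.left, ⊤)) {O : X.left.Opens} (r : Γ(X.left, O)) : Prop :=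
  GLinSh.resTop B.π O f = B.π.left.app O r * GLinSh.resTop B.π O g

theorem IsRatio.res {f g : Γ(B.V.left, ⊤)} {O O' : X.left.Opens} {r : Γ(X.left, O)} (h : IsRatio B f g r)
    (e : O' ≤ O) : IsRatio B f g (rf e r) := by
  have h' := congrArg (rf (B.π.left.preimage_mono e)) h
  rw [res_top_res B e] at h'
  rw [IsRatio, h', app_rf B.π.left e, ← res_top_res B e g]
  exact map_mul _ _ _

theorem isRatio_trans {f g h : Γ(B.V.left, ⊤)} {O : X.left.Opens} {r r' : Γ(X.left, O)} (hr : IsRatio B f g r)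
    (hr' : IsRatio B g h r') : IsRatio B f h (r * r') := by
  rw [IsRatio, hr, hr', map_mul, _root_.mul_assoc]

theorem isRatio_self (f : Γ(B.V.left, ⊤)) (O : X.left.Opens) : IsRatio B f f (1 : Γ(X.left, O)) := by
  rw [IsRatio, map_one, _root_.one_mul]

theorem ratio_unique {n : ℕ} {f g : Γ(B.V.left, ⊤)} (hg : GLinSh.HasWeight B.atlas.chart n g) {O : X.left.Opens}
    (hO : O ≤ Xf B hg) {r r' : Γ(X.left, O)} (h : IsRatio B f g r) (h' : IsRatio B f g r') : r = r' := by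
  refine eq_of_cover fun x hx => ?_
  obtain ⟨U, y, W, hy, -, hW, hWO, hxW⟩ := exists_chart B x hx
  refine ⟨W, hWO, hxW, ?_⟩
  obtain ⟨c, hc⟩ := exists_coef B hg hy hW
  have hu : IsUnit c := by
    have e : X.left.basicOpen c = W := by
      rw [← Xf_inf B hg hy hW hc]
      exact inf_eq_right.2 (hWO.trans hO)
    have h1 : IsUnit (rf (X.left.basicOpen_le c) c) :=
      RingedSpace.isUnit_res_basicOpen X.left.toLocallyRingedSpace.toRingedSpace c
    have h2 : IsUnit (rf e.ge (rf (X.left.basicOpen_le c) c)) :=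
      h1.map (X.left.presheaf.map (homOfLE e.ge).op).hom
    rwa [rf_rf, rf_self] at h2
  have h1 : GLinSh.resTop B.π W f = B.π.left.app W (rf hWO r) * GLinSh.resTop B.π W g := h.res B hWO
  have h2 : GLinSh.resTop B.π W f = B.π.left.app W (rf hWO r') * GLinSh.resTop B.π W g := h'.res B hWO
  rw [h1, hc, ← _root_.mul_assoc, ← _root_.mul_assoc, ← map_mul, ← map_mul] at h2
  exact hu.mul_right_cancel (coord_injective (B.atlas.coord U y hy) hW n h2)

theorem exists_ratio {n : ℕ} {f g : Γ(B.V.left, ⊤)} (hf : GLinSh.HasWeight B.atlas.chart n f)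
    (hg : GLinSh.HasWeight B.atlas.chart n g) : ∃ r : Γ(X.left, Xf B hg), IsRatio B f g r := by
  have hloc : ∀ x : Xf B hg, ∃ (W : X.left.Opens) (r : Γ(X.left, W)),
      x.1 ∈ W ∧ W ≤ Xf B hg ∧ IsRatio B f g r := by
    rintro ⟨x, hx⟩
    obtain ⟨U, y, W, hy, -, hW, hWO, hxW⟩ := exists_chart B x hx
    obtain ⟨c, hc⟩ := exists_coef B hf hy hW
    obtain ⟨d, hd⟩ := exists_coef B hg hy hW
    have e : X.left.basicOpen d = W := by
      rw [← Xf_inf B hg hy hW hd]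
      exact inf_eq_right.2 hWO
    have h1 : IsUnit (rf (X.left.basicOpen_le d) d) :=
      RingedSpace.isUnit_res_basicOpen X.left.toLocallyRingedSpace.toRingedSpace d
    have h2 : IsUnit (rf e.ge (rf (X.left.basicOpen_le d) d)) :=
      h1.map (X.left.presheaf.map (homOfLE e.ge).op).hom
    rw [rf_rf, rf_self] at h2
    obtain ⟨u, rfl⟩ := h2
    refine ⟨W, c * ↑u⁻¹, hxW, hWO, ?_⟩
    rw [IsRatio, hc, hd, ← _root_.mul_assoc, ← map_mul, Units.inv_mul_cancel_right]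
  choose W r hxW hWO hr using hloc
  obtain ⟨R, hR, -⟩ := TopCat.Sheaf.existsUnique_gluing' X.left.sheaf W (Xf B hg) (fun x => homOfLE (hWO x))
    (fun x hx => Opens.mem_iSup.2 ⟨⟨x, hx⟩, hxW ⟨x, hx⟩⟩) r fun x x' => by
      refine ratio_unique B hg ((inf_le_left : W x ⊓ W x' ≤ W x).trans (hWO x)) (f := f) ?_ ?_
      · exact (hr x).res B inf_le_left
      · exact (hr x').res B inf_le_right
  refine ⟨R, eq_of_cover fun v hv => ?_⟩
  refine ⟨B.π.left ⁻¹ᵁ W ⟨_, hv⟩, B.π.left.preimage_mono (hWO ⟨_, hv⟩), hxW ⟨_, hv⟩, ?_⟩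
  have h1 : rf (hWO ⟨_, hv⟩) R = r ⟨_, hv⟩ := hR ⟨_, hv⟩
  rw [res_top_res B (hWO ⟨_, hv⟩), hr ⟨_, hv⟩, ← h1, app_rf B.π.left (hWO ⟨_, hv⟩), ← res_top_res B (hWO ⟨_, hv⟩) g]
  exact (map_mul _ _ _).symm

/-- The ratio of two sections of the same weight. -/
def ratio {n : ℕ} {f g : Γ(B.V.left, ⊤)} (hf : GLinSh.HasWeight B.atlas.chart n f)
    (hg : GLinSh.HasWeight B.atlas.chart n g) : Γ(X.left, Xf B hg) := (exists_ratio B hf hg).choose

theorem isRatio_ratio {n : ℕ} {f g : Γ(B.V.left, ⊤)} (hf : GLinSh.HasWeight B.atlas.chart n f)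
    (hg : GLinSh.HasWeight B.atlas.chart n g) : IsRatio B f g (ratio B hf hg) := (exists_ratio B hf hg).choose_spec

theorem basicOpen_ratio {n : ℕ} {f g : Γ(B.V.left, ⊤)} (hf : GLinSh.HasWeight B.atlas.chart n f)
    (hg : GLinSh.HasWeight B.atlas.chart n g) {O : X.left.Opens} (hO : O ≤ Xf B hg) {r : Γ(X.left, O)}
    (hr : IsRatio B f g r) : X.left.basicOpen r = O ⊓ Xf B hf := by
  ext x
  by_cases hx : x ∈ O
  swap
  · exact ⟨fun h => absurd (X.left.basicOpen_le r h) hx, fun h => absurd h.1 hx⟩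
  obtain ⟨U, y, W, hy, -, hW, hWO, hxW⟩ := exists_chart B x hx
  obtain ⟨d, hd⟩ := exists_coef B hg hy hW
  have hf' : GLinSh.resTop B.π W f = B.π.left.app W (rf hWO r * d) * GLinSh.res B.π hW y ^ n := by
    rw [map_mul, _root_.mul_assoc, ← hd]
    exact hr.res B hWO
  have hxd : x ∈ X.left.basicOpen d := by
    rw [← Xf_inf B hg hy hW hd]
    exact ⟨hO hx, hxW⟩
  have key : x ∈ Xf B hf ⊓ W ↔ x ∈ X.left.basicOpen (rf hWO r) := by
    rw [Xf_inf B hf hy hW hf', Scheme.basicOpen_mul]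
    exact ⟨fun h => h.1, fun h => ⟨h, hxd⟩⟩
  rw [rf, Scheme.basicOpen_res] at key
  exact ⟨fun h => ⟨hx, (key.2 ⟨hxW, h⟩).1⟩, fun h => (key.1 ⟨h.2, hxW⟩).2⟩

theorem stable_Xf {n : ℕ} {f : Γ(B.V.left, ⊤)} (hf : B.IsInvSection n f) : GlueQ.Stable a (Xf B hf.1) := by
  have key : ∀ p : (G ⊗ X).left, (snd G X).left p ∈ Xf B hf.1 → a.act.left p ∈ Xf B hf.1 := by
    intro p hp
    obtain ⟨v, hv, hvx⟩ := hp
    have hsq := (Lib.GrpSch.isPullback_whiskerLeft G B.π)
    obtain ⟨z, hz1, hz2⟩ := Scheme.Pullback.exists_preimage_pullback p v hvx.symm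
    let q := hsq.isoPullback.inv z
    have hq1 : (G ◁ B.π).left q = p := by
      show (G ◁ B.π).left (hsq.isoPullback.inv z) = p
      rw [← Scheme.Hom.comp_apply, hsq.isoPullback_inv_fst, hz1]
    have hq2 : (snd G B.V).left q = v := by
      show (snd G B.V).left (hsq.isoPullback.inv z) = v
      rw [← Scheme.Hom.comp_apply, hsq.isoPullback_inv_snd, hz2]
    refine ⟨B.lift.act.left q, ?_, ?_⟩
    · have h1 : q ∈ (snd G B.V).left ⁻¹ᵁ B.V.left.basicOpen f := by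
        show (snd G B.V).left q ∈ B.V.left.basicOpen f
        rw [hq2]
        exact hv
      rw [Scheme.preimage_basicOpen_top, ← hf.2, ← Scheme.preimage_basicOpen_top] at h1
      exact h1
    · rw [← hq1, ← Scheme.Hom.comp_apply, ← Scheme.Hom.comp_apply]
      exact congrArg (fun m : G ⊗ B.V ⟶ X => m.left q) B.lift_π
  ext p
  refine ⟨fun h => ?_, key p⟩
  let ε : G ⊗ X ⟶ G ⊗ X := lift (fst G X)⁻¹ a.act
  have e1 : ε ≫ a.act = snd G X := by
    have h := Lib.GrpSch.act_inv_act a (fst G X) (snd G X)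
    rwa [lift_fst_snd, Category.id_comp] at h
  have hp1 : a.act.left (ε.left p) = (snd G X).left p := congrArg (fun m : G ⊗ X ⟶ X => m.left p) e1
  have hp2 : (snd G X).left (ε.left p) = a.act.left p :=
    congrArg (fun m : G ⊗ X ⟶ X => m.left p) (lift_snd _ _)
  have h2 := key (ε.left p) (by rw [hp2]; exact h)
  rw [hp1] at h2
  exact h2

end

end Groth.Agent.H60.LinB
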